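import Mathlib.RingTheory.RingHom.FinitePresentation
import Mathlib.RingTheory.RingHom.OpenImmersion
import Mathlib.RingTheory.RingHom.Flat
import Mathlib.RingTheory.Flat.FaithfullyFlat.Algebra
import Mathlib.RingTheory.LocalRing.ResidueField.Ideal

/-!
# Flat epimorphisms of finite type which are finitely presented over a dense open

A flat finite type epimorphism `A → B` which is of finite presentation over the members of a family
of basic opens of `Spec A` detecting zero is locally a standard open immersion.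
-/

universe u

set_option autoImplicit false
set_option backward.isDefEq.respectTransparency false

open scoped TensorProduct

namespace Groth.Agent.FlatMorDense

theorem bijective_of_faithfullyFlat_epi {R S : Type u} [CommRing R] [CommRing S] [Algebra R S]
    [Module.FaithfullyFlat R S] (h : ∀ s : S, s ⊗ₜ[R] (1 : S) = (1 : S) ⊗ₜ[R] s) :
    Function.Bijective (algebraMap R S) := by
  refine ⟨FaithfulSMul.algebraMap_injective R S, fun s => ?_⟩
  let Q := S ⧸ LinearMap.range (Algebra.linearMap R S)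
  let π : S →ₗ[R] Q := Submodule.mkQ _
  have h1 : π 1 = 0 := (Submodule.Quotient.mk_eq_zero _).2 ⟨1, by simp⟩
  have h2 := congrArg (LinearMap.lTensor S π) (h s)
  rw [LinearMap.lTensor_tmul, LinearMap.lTensor_tmul, h1, TensorProduct.tmul_zero] at h2
  have h3 : π s = 0 := Module.FaithfullyFlat.tensorProduct_mk_injective (A := R) (B := S) Q
    (by rw [map_zero]; exact h2.symm)
  exact (Submodule.Quotient.mk_eq_zero _).1 h3

theorem exists_fg_le_map_eq {A B : Type u} [CommRing A] [CommRing B] (φ : A →+* B) (J : Ideal A)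
    (h : (J.map φ).FG) : ∃ L ≤ J, L.FG ∧ L.map φ = J.map φ := by
  classical
  obtain ⟨t, ht, he⟩ := (Submodule.fg_span_iff_fg_span_finset_subset (φ '' (J : Set A))).1 h
  obtain ⟨t', ht', rfl⟩ := Finset.subset_set_image_iff.1 ht
  refine ⟨Ideal.span t', Ideal.span_le.2 ht', ⟨t', rfl⟩, ?_⟩
  rw [Ideal.map_span, Ideal.map, ← Finset.coe_image]
  exact he.symm

variable {A B : Type u} [CommRing A] [CommRing B] [Algebra A B]

theorem bijective_localRingHom [Module.Flat A B]
    (hepi : ∀ b : B, b ⊗ₜ[A] (1 : B) = (1 : B) ⊗ₜ[A] b) (q : Ideal B) [q.IsPrime] :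
    Function.Bijective (Localization.localRingHom (q.under A) q (algebraMap A B) rfl) := by
  let φ := Localization.localRingHom (q.under A) q (algebraMap A B) rfl
  let R := Localization.AtPrime (q.under A)
  let S := Localization.AtPrime q
  let : Algebra R S := φ.toAlgebra
  have : IsScalarTower A R S := IsScalarTower.of_algebraMap_eq fun a => by
    rw [RingHom.algebraMap_toAlgebra, Localization.localRingHom_to_map,
      ← IsScalarTower.algebraMap_apply A B S]
  have hflat : φ.Flat := RingHom.Flat.localRingHom (RingHom.flat_algebraMap_iff.2 ‹_›) _ _ _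
  have : Module.Flat R S := hflat
  have : IsLocalHom (algebraMap R S) := Localization.isLocalHom_localRingHom _ _ _ rfl
  have : Module.FaithfullyFlat R S := Module.FaithfullyFlat.of_flat_of_isLocalHom
  refine bijective_of_faithfullyFlat_epi (R := R) (S := S) fun s => ?_
  let L : S →+* S ⊗[R] S := Algebra.TensorProduct.includeLeftRingHom
  let L' : S →+* S ⊗[R] S := (Algebra.TensorProduct.includeRight : S →ₐ[R] _).toRingHom
  suffices L = L' from congrArg (fun f : S →+* S ⊗[R] S => f s) this
  refine IsLocalization.ringHom_ext q.primeCompl (RingHom.ext fun b => ?_)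
  let ι : B →ₐ[A] S := IsScalarTower.toAlgHom A B S
  let ψ : B ⊗[A] B →ₐ[A] S ⊗[R] S := Algebra.TensorProduct.lift
    ((Algebra.TensorProduct.includeLeft : S →ₐ[A] S ⊗[R] S).comp ι)
    (((Algebra.TensorProduct.includeRight : S →ₐ[R] S ⊗[R] S).restrictScalars A).comp ι)
    fun _ _ => Commute.all _ _
  have := congrArg ψ (hepi b)
  simp only [ψ, Algebra.TensorProduct.lift_tmul, map_one, one_mul, mul_one] at this
  exact this

theorem exists_isStandardOpenImmersion [Algebra.FiniteType A B] [Module.Flat A B]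
    (hepi : ∀ b : B, b ⊗ₜ[A] (1 : B) = (1 : B) ⊗ₜ[A] b) (σ : Finset A)
    (hinj : ∀ a : A, (∀ u ∈ σ, ∃ n : ℕ, u ^ n * a = 0) → a = 0)
    (hfp : ∀ u ∈ σ, (Localization.awayMap (algebraMap A B) u).FinitePresentation)
    (q : Ideal B) [q.IsPrime] :
    ∃ G ∉ q, Algebra.IsStandardOpenImmersion A (Localization.Away G) := by
  classical
  let p := q.under A
  let φ := algebraMap A B
  have hbij := bijective_localRingHom hepi q
  have key : ∀ b : B, ∃ (a s : A) (g : B), s ∉ p ∧ g ∉ q ∧ g * (φ s * b - φ a) = 0 := by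
    intro b
    obtain ⟨x, hx⟩ := hbij.2 (algebraMap B _ b)
    obtain ⟨⟨a, s⟩, hxs⟩ := IsLocalization.surj p.primeCompl x
    have h1 := congrArg (Localization.localRingHom p q φ rfl) hxs
    rw [map_mul, Localization.localRingHom_to_map, Localization.localRingHom_to_map, hx,
      ← map_mul] at h1
    obtain ⟨⟨g, hg⟩, h2⟩ := (IsLocalization.eq_iff_exists q.primeCompl _).1 h1
    exact ⟨a, s, g, s.2, hg, by
      show g * (φ s * b - φ a) = 0
      rw [mul_sub, sub_eq_zero, mul_comm (φ s) b]
      exact h2⟩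
  choose a s g hs hg heq using key
  obtain ⟨τ, hτ⟩ : ∃ τ : Finset B, Algebra.adjoin A (τ : Set B) = ⊤ := Algebra.FiniteType.out
  let s₀ := ∏ b ∈ τ, s b
  let g₀ := ∏ b ∈ τ, g b
  have hs₀ : φ s₀ ∉ q := fun h => by
    obtain ⟨b, -, hb⟩ := (Ideal.IsPrime.prod_mem_iff).1 (show s₀ ∈ p from h)
    exact hs b hb
  have hg₀ : g₀ ∉ q := fun h => by
    obtain ⟨b, -, hb⟩ := (Ideal.IsPrime.prod_mem_iff).1 h
    exact hg b hb
  -- elements of `B` are fractions over `A` once `s₀` and `g₀` are inverted
  have gen : ∀ {T D : Type u} [CommRing T] [CommRing D] (α : A →+* T) (β : B →+* D) (L : T →+* D),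
      L.comp α = β.comp φ → IsUnit (β g₀) → IsUnit (α s₀) → ∀ b : B, β b ∈ L.range := by
    intro T D _ _ α β L hL hgu hsu b
    have hc : ∀ x, L (α x) = β (φ x) := fun x => congrArg (fun f : A →+* D => f x) hL
    have hle : ∀ b ∈ τ, β b ∈ L.range := by
      intro b hb
      obtain ⟨v, hv⟩ : IsUnit (α (s b)) :=
        isUnit_of_dvd_unit (map_dvd α (Finset.dvd_prod_of_mem s hb)) hsu
      have hgb : IsUnit (β (g b)) := isUnit_of_dvd_unit (map_dvd β (Finset.dvd_prod_of_mem g hb)) hgu
      refine ⟨α (a b) * ↑v⁻¹, (v.isUnit.map L).mul_left_cancel ?_⟩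
      have h1 : β (φ (s b) * b - φ (a b)) = 0 := hgb.mul_right_eq_zero.1 (by rw [← map_mul, heq, map_zero])
      rw [map_sub, sub_eq_zero, map_mul] at h1
      rw [← map_mul, mul_left_comm, Units.mul_inv, mul_one, hv, hc, hc, h1]
    have hb : b ∈ Algebra.adjoin A (τ : Set B) := hτ ▸ Algebra.mem_top
    induction hb using Algebra.adjoin_induction with
    | mem x hx => exact hle x hx
    | algebraMap r => exact ⟨α r, hc r⟩
    | add x y _ _ hx hy => rw [map_add]; exact add_mem hx hy
    | mul x y _ _ hx hy => rw [map_mul]; exact mul_mem hx hy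
  -- express `g₀`
  let G₀ := g₀ * φ s₀
  let α₀ := algebraMap A (Localization.Away s₀)
  let β₀ := algebraMap B (Localization.Away G₀)
  have hu₀ : IsUnit (β₀ G₀) := IsLocalization.Away.algebraMap_isUnit _
  let L₀ : Localization.Away s₀ →+* Localization.Away G₀ :=
    IsLocalization.Away.lift s₀ (g := β₀.comp φ)
      (isUnit_of_dvd_unit (map_dvd β₀ (dvd_mul_left (φ s₀) g₀)) hu₀)
  obtain ⟨x, hx⟩ := gen α₀ β₀ L₀ (IsLocalization.Away.lift_comp s₀ _)
    (isUnit_of_dvd_unit (map_dvd β₀ (dvd_mul_right g₀ (φ s₀))) hu₀)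
    (IsLocalization.Away.algebraMap_isUnit _) g₀
  obtain ⟨N, c, hc⟩ := IsLocalization.Away.surj s₀ x
  have hc' := congrArg L₀ hc
  simp only [L₀, map_mul, map_pow, IsLocalization.Away.lift_eq, RingHom.comp_apply] at hc'
  rw [show IsLocalization.Away.lift s₀ _ x = L₀ x from rfl, hx, ← map_pow, ← map_mul] at hc'
  obtain ⟨⟨_, k, rfl⟩, hk⟩ := (IsLocalization.eq_iff_exists (Submonoid.powers G₀) _).1 hc'
  have hcq : φ c ∉ q := fun h => by
    have : G₀ ^ k * (g₀ * φ s₀ ^ N) ∈ q := by
      have h' := q.mul_mem_left (G₀ ^ k) h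
      rwa [← show G₀ ^ k * (g₀ * φ s₀ ^ N) = G₀ ^ k * φ c from hk] at h'
    rcases (‹q.IsPrime›.mem_or_mem this) with h | h
    · rcases ‹q.IsPrime›.mem_or_mem (‹q.IsPrime›.mem_of_pow_mem k h) with h | h
      exacts [hg₀ h, hs₀ h]
    · rcases ‹q.IsPrime›.mem_or_mem h with h | h
      exacts [hg₀ h, hs₀ (‹q.IsPrime›.mem_of_pow_mem N h)]
  let t := s₀ * c
  let G := G₀ * φ c
  have hG : G ∉ q := fun h => (‹q.IsPrime›.mem_or_mem h).elim
    (fun h => (‹q.IsPrime›.mem_or_mem h).elim hg₀ hs₀) hcq
  have htq : t ∉ p := fun h => by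
    rcases (‹q.IsPrime›.mem_or_mem (show φ s₀ * φ c ∈ q from map_mul φ s₀ c ▸ h)) with h | h
    exacts [hs₀ h, hcq h]
  -- the map `A[1/(t r)] → B[1/(G r)]`
  have hunit : ∀ r : A, IsUnit (((algebraMap B (Localization.Away (G * φ r))).comp φ) (t * r)) := by
    intro r
    refine isUnit_of_dvd_unit (map_dvd (algebraMap B _) ?_)
      (IsLocalization.Away.algebraMap_isUnit (G * φ r))
    rw [map_mul, map_mul]
    exact ⟨g₀, by show g₀ * φ s₀ * φ c * φ r = _; ring⟩
  let M : ∀ r : A, Localization.Away (t * r) →+* Localization.Away (G * φ r) := fun r =>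
    IsLocalization.Away.lift (t * r) (hunit r)
  have hM : ∀ r x, M r (algebraMap A _ x) = algebraMap B _ (φ x) := fun r x =>
    IsLocalization.Away.lift_eq _ _ _
  have hsurj : ∀ r, Function.Surjective (M r) := by
    intro r
    let β := algebraMap B (Localization.Away (G * φ r))
    let α := algebraMap A (Localization.Away (t * r))
    have hα : IsUnit (α t) ∧ IsUnit (α r) := IsUnit.mul_iff.1 (by
      rw [← map_mul]; exact IsLocalization.Away.algebraMap_isUnit _)
    have hαs : IsUnit (α s₀) ∧ IsUnit (α c) := IsUnit.mul_iff.1 (by rw [← map_mul]; exact hα.1)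
    have hβG : IsUnit (β G₀) := isUnit_of_dvd_unit
      (map_dvd β ((dvd_mul_right G₀ (φ c)).trans (dvd_mul_right G (φ r))))
      (IsLocalization.Away.algebraMap_isUnit _)
    have hβg : IsUnit (β g₀) := isUnit_of_dvd_unit (map_dvd β (dvd_mul_right g₀ (φ s₀))) hβG
    have hr : ∀ b, β b ∈ (M r).range := gen α β (M r) (RingHom.ext (hM r)) hβg hαs.1
    have hgg : β g₀ * M r (α s₀) ^ N = M r (α c) := by
      refine (hβG.pow k).mul_left_cancel ?_
      rw [hM, hM, ← map_pow, ← map_pow, ← map_mul, ← map_mul, ← map_mul]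
      exact congrArg β hk
    intro z
    obtain ⟨n, b, hb⟩ := IsLocalization.Away.surj (G * φ r) z
    obtain ⟨y, hy⟩ := hr b
    obtain ⟨v, hv⟩ := hαs.1.pow N
    have hGr : ∃ w, IsUnit w ∧ M r w = β (G * φ r) := by
      refine ⟨α c * ↑v⁻¹ * α s₀ * α c * α r,
        ((((hαs.2.mul (Units.isUnit _)).mul hαs.1).mul hαs.2).mul hα.2), ?_⟩
      have h2 : β g₀ = M r (α c * ↑v⁻¹) := by
        refine (v.isUnit.map (M r)).mul_right_cancel ?_
        rw [← map_mul, Units.inv_mul_cancel_right, hv, map_pow, hgg]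
      show _ = β (g₀ * φ s₀ * φ c * φ r)
      simp only [map_mul, hM, α] at h2 ⊢
      rw [h2]
    obtain ⟨w, hw, hw'⟩ := hGr
    obtain ⟨v', hv'⟩ := hw.pow n
    refine ⟨y * ↑v'⁻¹, (v'.isUnit.map (M r)).mul_right_cancel ?_⟩
    rw [← map_mul, Units.inv_mul_cancel_right, hy, hv', map_pow, hw']
    exact hb.symm
  let K : Ideal A := RingHom.ker ((algebraMap B (Localization.Away G)).comp φ)
  have hker : ∀ (r x : A), algebraMap B (Localization.Away (G * φ r)) (φ x) = 0 →
      ∃ k, r ^ k * x ∈ K := by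
    intro r x hx
    obtain ⟨⟨_, k, rfl⟩, hk⟩ :=
      (IsLocalization.map_eq_zero_iff (Submonoid.powers (G * φ r)) _ _).1 hx
    refine ⟨k, RingHom.mem_ker.2 ((IsLocalization.map_eq_zero_iff (Submonoid.powers G) _ _).2
      ⟨⟨_, k, rfl⟩, ?_⟩)⟩
    rw [map_mul, map_pow]
    show G ^ k * (φ r ^ k * φ x) = 0
    rw [← mul_assoc, ← mul_pow]
    exact hk
  have hkill : ∀ x ∈ K, ∃ r ∉ p, r * x = 0 := by
    intro x hx
    obtain ⟨⟨_, k, rfl⟩, hk⟩ := (IsLocalization.map_eq_zero_iff (Submonoid.powers G) _ _).1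
      (RingHom.mem_ker.1 hx)
    have h0 : algebraMap A (Localization.AtPrime p) x = 0 := hbij.1 (by
      rw [map_zero, Localization.localRingHom_to_map]
      exact (IsLocalization.map_eq_zero_iff q.primeCompl _ _).2
        ⟨⟨G ^ k, fun h => hG (‹q.IsPrime›.mem_of_pow_mem k h)⟩, hk⟩)
    obtain ⟨⟨r, hr⟩, hr'⟩ := (IsLocalization.map_eq_zero_iff p.primeCompl _ _).1 h0
    exact ⟨r, hr, hr'⟩
  have hloc : ∀ u ∈ σ, ∃ r ∉ p, ∀ x ∈ K, algebraMap A (Localization.Away (t * u)) (r * x) = 0 := by
    intro u hu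
    let αu := algebraMap A (Localization.Away u)
    let ι₁ : Localization.Away u →+* Localization.Away (t * u) := IsLocalization.Away.lift u
      (g := algebraMap A _) (isUnit_of_dvd_unit (map_dvd _ (dvd_mul_left u t))
        (IsLocalization.Away.algebraMap_isUnit _))
    let βu := algebraMap B (Localization.Away (φ u))
    let ι₂ : Localization.Away (φ u) →+* Localization.Away (G * φ u) := IsLocalization.Away.lift (φ u)
      (g := algebraMap B _) (isUnit_of_dvd_unit (map_dvd _ (dvd_mul_left (φ u) G))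
        (IsLocalization.Away.algebraMap_isUnit _))
    have h₂ : ι₂.FinitePresentation := by
      refine RingHom.FinitePresentation.of_comp_finiteType βu ?_ ?_
      · rw [IsLocalization.Away.lift_comp]
        exact RingHom.finitePresentation_algebraMap.2
          (IsLocalization.Away.finitePresentation (G * φ u))
      · exact RingHom.finiteType_algebraMap.2 inferInstance
    have h₁ : (M u).FinitePresentation := by
      refine RingHom.FinitePresentation.of_comp_finiteType ι₁ ?_ ?_
      · have : (M u).comp ι₁ = ι₂.comp (Localization.awayMap φ u) := by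
          refine IsLocalization.ringHom_ext (Submonoid.powers u) (RingHom.ext fun x => ?_)
          simp only [RingHom.comp_apply, ι₁, ι₂, M, IsLocalization.Away.lift_eq, Localization.awayMap,
            IsLocalization.Away.map, IsLocalization.map_eq]
        rw [this]
        exact h₂.comp (hfp u hu)
      · refine RingHom.FiniteType.of_comp_finiteType (f := αu) ?_
        rw [IsLocalization.Away.lift_comp]
        exact RingHom.finiteType_algebraMap.2 inferInstance
    have hkfg : (RingHom.ker (M u)).FG := by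
      let _ := (M u).toAlgebra
      have : Algebra.FinitePresentation (Localization.Away (t * u)) (Localization.Away (G * φ u)) := h₁
      exact Algebra.FinitePresentation.ker_fG_of_surjective
        (Algebra.ofId (Localization.Away (t * u)) (Localization.Away (G * φ u))) (hsurj u)
    have hmap : RingHom.ker (M u) = K.map (algebraMap A _) := by
      refine le_antisymm (fun z hz => ?_) (Ideal.map_le_iff_le_comap.2 fun x hx => ?_)
      · obtain ⟨n, x, hx⟩ := IsLocalization.Away.surj (t * u) z
        have h0 := congrArg (M u) hx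
        rw [map_mul, RingHom.mem_ker.1 hz, zero_mul, hM] at h0
        obtain ⟨k, hk⟩ := hker u x h0.symm
        have hu' : IsUnit (algebraMap A (Localization.Away (t * u)) u) :=
          isUnit_of_dvd_unit (map_dvd _ (dvd_mul_left u t)) (IsLocalization.Away.algebraMap_isUnit _)
        have := Ideal.mem_map_of_mem (algebraMap A (Localization.Away (t * u))) hk
        rw [map_mul, map_pow, Ideal.unit_mul_mem_iff_mem _ (hu'.pow k), ← hx,
          Ideal.mul_unit_mem_iff_mem _
            ((IsLocalization.Away.algebraMap_isUnit (t * u)).pow n)] at this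
        exact this
      · rw [Ideal.mem_comap, RingHom.mem_ker, hM]
        obtain ⟨⟨_, k, rfl⟩, hk⟩ := (IsLocalization.map_eq_zero_iff (Submonoid.powers G) _ _).1
          (RingHom.mem_ker.1 hx)
        refine (IsLocalization.map_eq_zero_iff (Submonoid.powers (G * φ u)) _ _).2
          ⟨⟨_, k, rfl⟩, ?_⟩
        show (G * φ u) ^ k * φ x = 0
        rw [mul_pow, mul_right_comm, show G ^ k * φ x = 0 from hk, zero_mul]
    obtain ⟨L, hLK, ⟨w, hw⟩, hLmap⟩ := exists_fg_le_map_eq _ K (hmap ▸ hkfg)
    choose r hr hr' using fun x : w => hkill x (hLK (hw ▸ Submodule.subset_span x.2))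
    refine ⟨∏ x, r x, fun h => ?_, fun x hx => ?_⟩
    · obtain ⟨x, -, hxp⟩ := (Ideal.IsPrime.prod_mem_iff).1 h
      exact hr x hxp
    · have hx' : algebraMap A (Localization.Away (t * u)) x ∈ L.map (algebraMap A _) :=
        hLmap ▸ Ideal.mem_map_of_mem _ hx
      rw [← hw, Ideal.map_span] at hx'
      rw [map_mul]
      generalize algebraMap A (Localization.Away (t * u)) x = y at hx' ⊢
      induction hx' using Submodule.span_induction with
      | mem z hz =>
        obtain ⟨v, hv, rfl⟩ := hz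
        rw [← map_mul]
        obtain ⟨d, hd⟩ : r ⟨v, hv⟩ ∣ ∏ x, r x := Finset.dvd_prod_of_mem r (Finset.mem_univ _)
        rw [hd, show r ⟨v, hv⟩ * d * v = d * (r ⟨v, hv⟩ * v) by ring, show r ⟨v, hv⟩ * v = 0 from hr' ⟨v, hv⟩, mul_zero, map_zero]
      | zero => rw [mul_zero]
      | add y z _ _ hy hz => rw [mul_add, hy, hz, add_zero]
      | smul e y _ hy => rw [smul_eq_mul, mul_left_comm, hy, mul_zero]
  choose ru hru hru' using hloc
  let r := ∏ u ∈ σ.attach, ru u.1 u.2
  have hrp : r ∉ p := fun h => by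
    obtain ⟨u, -, hup⟩ := (Ideal.IsPrime.prod_mem_iff).1 h
    exact hru u.1 u.2 hup
  have hzero : ∀ x ∈ K, ∃ n, t ^ n * (r * x) = 0 := by
    intro x hx
    have h1 : ∀ u : σ, ∃ n, (t * u.1) ^ n * (r * x) = 0 := fun u => by
      obtain ⟨d, hd⟩ : ru u.1 u.2 ∣ r := Finset.dvd_prod_of_mem (fun u : σ => ru u.1 u.2) (σ.mem_attach u)
      have h0 : algebraMap A (Localization.Away (t * u.1)) (r * x) = 0 := by
        rw [hd, show ru u.1 u.2 * d * x = d * (ru u.1 u.2 * x) by ring, map_mul,
          hru' u.1 u.2 x hx, mul_zero]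
      obtain ⟨⟨_, n, rfl⟩, hn⟩ := (IsLocalization.map_eq_zero_iff (Submonoid.powers (t * u.1)) _ _).1 h0
      exact ⟨n, hn⟩
    choose n hn using h1
    refine ⟨Finset.univ.sup n, hinj _ fun u hu => ⟨n ⟨u, hu⟩, ?_⟩⟩
    obtain ⟨d, hd⟩ := Nat.exists_eq_add_of_le (Finset.le_sup (f := n) (Finset.mem_univ ⟨u, hu⟩))
    have := congrArg (t ^ d * ·) (hn ⟨u, hu⟩)
    simp only [mul_zero] at this
    rw [hd, ← this, pow_add, mul_pow]
    ring
  -- conclusion
  refine ⟨G * φ r, fun h => (‹q.IsPrime›.mem_or_mem h).elim hG hrp, ⟨t * r, ?_⟩⟩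
  have hMinj : Function.Injective (M r) := by
    rw [injective_iff_map_eq_zero]
    intro z hz
    obtain ⟨n, x, hx⟩ := IsLocalization.Away.surj (t * r) z
    have h0 := congrArg (M r) hx
    rw [map_mul, hz, zero_mul, hM] at h0
    obtain ⟨k, hk⟩ := hker r x h0.symm
    obtain ⟨m, hm⟩ := hzero _ hk
    refine (((IsLocalization.Away.algebraMap_isUnit (t * r)).pow n).mul_left_eq_zero).1 ?_
    rw [hx]
    refine (IsLocalization.map_eq_zero_iff (Submonoid.powers (t * r)) _ _).2
      ⟨⟨_, m + k + 1, rfl⟩, ?_⟩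
    have := congrArg (t ^ (k + 1) * r ^ m * ·) hm
    simp only [mul_zero] at this
    rw [← this]
    show (t * r) ^ (m + k + 1) * x = _
    ring
  let e : Localization.Away (t * r) ≃ₐ[A] Localization.Away (G * φ r) := AlgEquiv.ofBijective
    { toRingHom := M r
      commutes' := fun x => by
        show M r (algebraMap A _ x) = _
        rw [hM, ← IsScalarTower.algebraMap_apply] }
    ⟨hMinj, hsurj r⟩
  exact IsLocalization.isLocalization_of_algEquiv (Submonoid.powers (t * r)) e

end Groth.Agent.FlatMorDense
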